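import Cfsg.Agent.Spor.He168.D0

set_option autoImplicit false
set_option maxRecDepth 100000000
set_option Elab.async false

namespace Cfsg.Agent.Spor.He168

theorem ok0 : Net.okb 8 n0 = true := by decide +kernel

theorem ok1 : Net.okb 8 n1 = true := by decide +kernel

theorem ok2 : Net.okb 8 n2 = true := by decide +kernel

theorem ok3 : Net.okb 8 n3 = true := by decide +kernel

theorem rel0 : T.rel 8 [1, 1] 0 8 = true := by decide +kernel

theorem rel1 : T.rel 8 [2, 2] 0 8 = true := by decide +kernel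

theorem rel2 : T.rel 8 [3, 3] 0 8 = true := by decide +kernel

theorem rel3 : T.rel 8 [4, 4] 0 8 = true := by decide +kernel

theorem rel4 : T.rel 8 [2, 1, 2, 1, 2, 1] 0 8 = true := by decide +kernel

theorem rel5 : T.rel 8 [3, 1, 3, 1, 3, 1] 0 8 = true := by decide +kernel

theorem rel6 : T.rel 8 [4, 1, 4, 1, 4, 1] 0 8 = true := by decide +kernel

theorem rel7 : T.rel 8 [3, 2, 3, 2] 0 8 = true := by decide +kernel

theorem rel8 : T.rel 8 [4, 2, 4, 2] 0 8 = true := by decide +kernel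

theorem rel9 : T.rel 8 [4, 3, 4, 3, 4, 3, 4, 3] 0 8 = true := by decide +kernel

theorem rel10 : T.rel 8 [3, 4, 3, 4, 2] 0 8 = true := by decide +kernel

theorem hcov : T.treeCov (ones 168) L 1 = true := by decide +kernel

theorem hg : lall (fun z => band (memL L z) (band (sub (ones 168) (T.let z).cl) (T.closed (ones 168) z))) gs = true := by decide +kernel

theorem rot1_1 : T.rot 1 [1] (sel (ones 168) ip1 1) = true := by decide +kernel

theorem rot1_1r : band (Rule.ok (2 * 4) EX RL ⟨1 :: [1], [], 7, false⟩) (lall (memL L) [1]) = true := by decide +kernel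

theorem rot1_2 : T.rot 1 [2, 1, 2, 1, 2] (sel (ones 168) ip1 2) = true := by decide +kernel

theorem rot1_2r : band (Rule.ok (2 * 4) EX RL ⟨1 :: [2, 1, 2, 1, 2], [], 0, false⟩) (lall (memL L) [2, 1, 2, 1, 2]) = true := by decide +kernel

theorem rot1_3 : T.rot 1 [3, 1, 3, 1, 3] (sel (ones 168) ip1 3) = true := by decide +kernel

theorem rot1_3r : band (Rule.ok (2 * 4) EX RL ⟨1 :: [3, 1, 3, 1, 3], [], 1, false⟩) (lall (memL L) [3, 1, 3, 1, 3]) = true := by decide +kernel

theorem rot1_4 : T.rot 1 [4, 1, 4, 1, 4] (sel (ones 168) ip1 4) = true := by decide +kernel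

theorem rot1_4r : band (Rule.ok (2 * 4) EX RL ⟨1 :: [4, 1, 4, 1, 4], [], 2, false⟩) (lall (memL L) [4, 1, 4, 1, 4]) = true := by decide +kernel

theorem cov1 : T.cover 1 [(sel (ones 168) ip1 1), (sel (ones 168) ip1 2), (sel (ones 168) ip1 3), (sel (ones 168) ip1 4)] = true := by decide +kernel

theorem tl1 : T.treeLt 8 1 = true := by decide +kernel

theorem rot2_1 : T.rot 2 [2] (sel (ones 168) ip2 1) = true := by decide +kernel

theorem rot2_1r : band (Rule.ok (2 * 4) EX RL ⟨2 :: [2], [], 7, false⟩) (lall (memL L) [2]) = true := by decide +kernel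

theorem rot2_2 : T.rot 2 [3, 2, 3] (sel (ones 168) ip2 2) = true := by decide +kernel

theorem rot2_2r : band (Rule.ok (2 * 4) EX RL ⟨2 :: [3, 2, 3], [], 3, false⟩) (lall (memL L) [3, 2, 3]) = true := by decide +kernel

theorem rot2_3 : T.rot 2 [4, 2, 4] (sel (ones 168) ip2 3) = true := by decide +kernel

theorem rot2_3r : band (Rule.ok (2 * 4) EX RL ⟨2 :: [4, 2, 4], [], 4, false⟩) (lall (memL L) [4, 2, 4]) = true := by decide +kernel

theorem rot2_4 : T.rot 2 [3, 4, 3, 4] (sel (ones 168) ip2 4) = true := by decide +kernel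

theorem rot2_4r : band (Rule.ok (2 * 4) EX RL ⟨2 :: [3, 4, 3, 4], [2], 6, true⟩) (lall (memL L) [3, 4, 3, 4]) = true := by decide +kernel

theorem rot2_5 : T.rot 2 [4, 3, 4, 3] (sel (ones 168) ip2 5) = true := by decide +kernel

theorem rot2_5r : band (Rule.ok (2 * 4) EX RL ⟨2 :: [4, 3, 4, 3], [], 6, false⟩) (lall (memL L) [4, 3, 4, 3]) = true := by decide +kernel

theorem rot2_6 : T.rot 2 [1, 2, 1, 2, 1] (sel (ones 168) ip2 6) = true := by decide +kernel

theorem rot2_6r : band (Rule.ok (2 * 4) EX RL ⟨2 :: [1, 2, 1, 2, 1], [], 0, true⟩) (lall (memL L) [1, 2, 1, 2, 1]) = true := by decide +kernel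

theorem cov2 : T.cover 2 [(sel (ones 168) ip2 1), (sel (ones 168) ip2 2), (sel (ones 168) ip2 3), (sel (ones 168) ip2 4), (sel (ones 168) ip2 5), (sel (ones 168) ip2 6)] = true := by decide +kernel

theorem tl2 : T.treeLt 8 2 = true := by decide +kernel

theorem rot3_1 : T.rot 3 [3] (sel (ones 168) ip3 1) = true := by decide +kernel

theorem rot3_1r : band (Rule.ok (2 * 4) EX RL ⟨3 :: [3], [], 7, false⟩) (lall (memL L) [3]) = true := by decide +kernel

theorem rot3_2 : T.rot 3 [2, 3, 2] (sel (ones 168) ip3 2) = true := by decide +kernel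

theorem rot3_2r : band (Rule.ok (2 * 4) EX RL ⟨3 :: [2, 3, 2], [], 3, true⟩) (lall (memL L) [2, 3, 2]) = true := by decide +kernel

theorem rot3_3 : T.rot 3 [4, 3, 4, 2] (sel (ones 168) ip3 3) = true := by decide +kernel

theorem rot3_3r : band (Rule.ok (2 * 4) EX RL ⟨3 :: [4, 3, 4, 2], [], 6, true⟩) (lall (memL L) [4, 3, 4, 2]) = true := by decide +kernel

theorem rot3_4 : T.rot 3 [4, 2, 3, 4] (sel (ones 168) ip3 4) = true := by decide +kernel

theorem rot3_4r : band (Rule.ok (2 * 4) EX RL ⟨3 :: [4, 2, 3, 4], [4, 6], 6, true⟩) (lall (memL L) [4, 2, 3, 4]) = true := by decide +kernel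

theorem rot3_5 : T.rot 3 [4, 3, 2, 4] (sel (ones 168) ip3 5) = true := by decide +kernel

theorem rot3_5r : band (Rule.ok (2 * 4) EX RL ⟨3 :: [4, 3, 2, 4], [2, 6], 6, false⟩) (lall (memL L) [4, 3, 2, 4]) = true := by decide +kernel

theorem rot3_6 : T.rot 3 [2, 4, 3, 4] (sel (ones 168) ip3 6) = true := by decide +kernel

theorem rot3_6r : band (Rule.ok (2 * 4) EX RL ⟨3 :: [2, 4, 3, 4], [4], 6, false⟩) (lall (memL L) [2, 4, 3, 4]) = true := by decide +kernel

theorem rot3_7 : T.rot 3 [1, 3, 1, 3, 1] (sel (ones 168) ip3 7) = true := by decide +kernel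

theorem rot3_7r : band (Rule.ok (2 * 4) EX RL ⟨3 :: [1, 3, 1, 3, 1], [], 1, true⟩) (lall (memL L) [1, 3, 1, 3, 1]) = true := by decide +kernel

theorem cov3 : T.cover 3 [(sel (ones 168) ip3 1), (sel (ones 168) ip3 2), (sel (ones 168) ip3 3), (sel (ones 168) ip3 4), (sel (ones 168) ip3 5), (sel (ones 168) ip3 6), (sel (ones 168) ip3 7)] = true := by decide +kernel

theorem tl3 : T.treeLt 8 3 = true := by decide +kernel

theorem rot4_1 : T.rot 4 [4] (sel (ones 168) ip4 1) = true := by decide +kernel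

theorem rot4_1r : band (Rule.ok (2 * 4) EX RL ⟨4 :: [4], [], 7, false⟩) (lall (memL L) [4]) = true := by decide +kernel

theorem rot4_2 : T.rot 4 [2, 4, 2] (sel (ones 168) ip4 2) = true := by decide +kernel

theorem rot4_2r : band (Rule.ok (2 * 4) EX RL ⟨4 :: [2, 4, 2], [], 4, true⟩) (lall (memL L) [2, 4, 2]) = true := by decide +kernel

theorem rot4_3 : T.rot 4 [3, 4, 2, 3] (sel (ones 168) ip4 3) = true := by decide +kernel

theorem rot4_3r : band (Rule.ok (2 * 4) EX RL ⟨4 :: [3, 4, 2, 3], [4], 6, true⟩) (lall (memL L) [3, 4, 2, 3]) = true := by decide +kernel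

theorem rot4_4 : T.rot 4 [2, 3, 4, 3] (sel (ones 168) ip4 4) = true := by decide +kernel

theorem rot4_4r : band (Rule.ok (2 * 4) EX RL ⟨4 :: [2, 3, 4, 3], [2, 6], 6, true⟩) (lall (memL L) [2, 3, 4, 3]) = true := by decide +kernel

theorem rot4_5 : T.rot 4 [3, 4, 3, 2] (sel (ones 168) ip4 5) = true := by decide +kernel

theorem rot4_5r : band (Rule.ok (2 * 4) EX RL ⟨4 :: [3, 4, 3, 2], [2], 6, false⟩) (lall (memL L) [3, 4, 3, 2]) = true := by decide +kernel

theorem rot4_6 : T.rot 4 [3, 2, 4, 3] (sel (ones 168) ip4 6) = true := by decide +kernel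

theorem rot4_6r : band (Rule.ok (2 * 4) EX RL ⟨4 :: [3, 2, 4, 3], [4, 6], 6, false⟩) (lall (memL L) [3, 2, 4, 3]) = true := by decide +kernel

theorem rot4_7 : T.rot 4 [1, 4, 1, 4, 1] (sel (ones 168) ip4 7) = true := by decide +kernel

theorem rot4_7r : band (Rule.ok (2 * 4) EX RL ⟨4 :: [1, 4, 1, 4, 1], [], 2, true⟩) (lall (memL L) [1, 4, 1, 4, 1]) = true := by decide +kernel

theorem cov4 : T.cover 4 [(sel (ones 168) ip4 1), (sel (ones 168) ip4 2), (sel (ones 168) ip4 3), (sel (ones 168) ip4 4), (sel (ones 168) ip4 5), (sel (ones 168) ip4 6), (sel (ones 168) ip4 7)] = true := by decide +kernel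

theorem tl4 : T.treeLt 8 4 = true := by decide +kernel

end Cfsg.Agent.Spor.He168
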